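import Cfsg.Agent.CosetEnum.HeInv.Code

set_option autoImplicit false
set_option maxRecDepth 100000
set_option Elab.async false

/-! Kernel evaluation of the checks on the centraliser tables. -/

namespace CfsgLib.CosetEnum.HeInv

theorem pt0_ok : allR (okPt wd0 pt0) 12 0 = true := by decide +kernel
theorem pt1_ok : allR (okPt wd1 pt1) 12 0 = true := by decide +kernel
theorem pt2_ok : allR (okPt wd2 pt2) 12 0 = true := by decide +kernel

theorem comm0_ok : allR (okComm wd0) 12 0 = true := by decide +kernel
theorem comm1_ok : allR (okComm wd1) 12 0 = true := by decide +kernel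
theorem comm2_ok : allR (okComm wd2) 12 0 = true := by decide +kernel

theorem fix_ok : allR okFix 12 0 = true := by decide +kernel

theorem conj_ok : allR okConj 12 0 = true := by decide +kernel

theorem step0_ok : allR (okStep pt0 rt0 nx0) 15 0 = true := by decide +kernel
theorem step1_ok : allR (okStep pt1 rt1 nx1) 15 0 = true := by decide +kernel
theorem step2_ok : allR (okStep pt2 rt2 nx2) 15 0 = true := by decide +kernel

theorem tree_ok : allR okTree 15 0 = true := by decide +kernel

theorem rank_ok : allR okRank 15 0 = true := by decide +kernel

end CfsgLib.CosetEnum.HeInv
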