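import Cfsg.Agent.CosetEnum.HeInv.Data

set_option autoImplicit false

/-! The checks on the centraliser tables, shaped for evaluation by the kernel. -/

namespace CfsgLib.CosetEnum.HeInv

noncomputable section

/-- Entry `i` of a table packed with `w` bits per entry. -/
def ex (w tbl i : Nat) : Nat :=
  Nat.land (Nat.shiftRight tbl (Nat.mul w i)) (Nat.sub (Nat.pow 2 w) 1)

/-- Three points as one number. -/
def key3 (a b c : Nat) : Nat := Nat.add (Nat.mul (Nat.add (Nat.mul a 4096) b) 4096) c

/-- Multiply a coded matrix by the matrix with row table `R`. -/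
def mulRow (R c : Nat) : Nat :=
  Nat.add (ex 5 R (ex 5 c 0)) (Nat.add (Nat.mul 32 (ex 5 R (ex 5 c 1)))
    (Nat.add (Nat.mul 1024 (ex 5 R (ex 5 c 2))) (Nat.add (Nat.mul 32768 (ex 5 R (ex 5 c 3)))
      (Nat.mul 1048576 (ex 5 R (ex 5 c 4))))))

/-- Code of the identity. -/
def isId (c : Nat) : Bool :=
  Nat.beq (ex 5 c 0) 1 && Nat.beq (ex 5 c 1) 2 && Nat.beq (ex 5 c 2) 4 && Nat.beq (ex 5 c 3) 8 &&
    Nat.beq (ex 5 c 4) 16

def selX (a b c x : Nat) : Nat :=
  Bool.rec (motive := fun _ => Nat) a (Bool.rec (motive := fun _ => Nat) b c (Nat.ble 2 x)) (Nat.ble 1 x)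

/-- A generator table agrees with the walk of its word. -/
def okPt (w : List Nat) (p i : Nat) : Bool :=
  bif Nat.blt i 2058 then Nat.beq (walk HeH.tb w i) (ext p i) else true

/-- The involution commutes with a word. -/
def okComm (w : List Nat) (i : Nat) : Bool :=
  bif Nat.blt i 2058 then Nat.beq (T HeH.tb 3 (walk HeH.tb w i)) (walk HeH.tb w (T HeH.tb 3 i)) else true

/-- A step of the table for one generator. -/
def okStep (p R nt i : Nat) : Bool :=
  bif Nat.blt i 21504 then
    Nat.blt (ext nt i) 21504 &&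
      Nat.beq (ext kt0 (ext nt i)) (ext p (ext kt0 i)) &&
      Nat.beq (ext kt1 (ext nt i)) (ext p (ext kt1 i)) &&
      Nat.beq (ext kt2 (ext nt i)) (ext p (ext kt2 i)) &&
      Nat.beq (ex 25 mt (ext nt i)) (mulRow R (ex 25 mt i))
  else true

/-- A tree edge; only entry `0` is the identity. -/
def okTree (i : Nat) : Bool :=
  bif Nat.blt i 21504 && Nat.blt 0 i then
    Nat.blt (Nat.shiftRight (ext par i) 2) i && Nat.blt (Nat.land (ext par i) 3) 3 &&
      Nat.beq (ext (selX nx0 nx1 nx2 (Nat.land (ext par i) 3)) (Nat.shiftRight (ext par i) 2)) i &&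
      !(isId (ex 25 mt i))
  else true

/-- The key of a table entry. -/
def keyAt (i : Nat) : Nat := key3 (ext kt0 i) (ext kt1 i) (ext kt2 i)

/-- The keys are distinct. -/
def okRank (i : Nat) : Bool :=
  bif Nat.blt i 21504 then
    Nat.blt (ext rkt i) 21504 && Nat.beq (ext pos (ext rkt i)) i &&
      bif Nat.blt (Nat.add i 1) 21504 then Nat.blt (keyAt (ext pos i)) (keyAt (ext pos (Nat.add i 1))) else true
  else true

/-- Decode a word. -/
def dig (fuel c : Nat) : List Nat :=
  Nat.rec (fun _ => []) (fun _ ih c => bif Nat.beq c 0 then [] else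
    Nat.sub (Nat.land c 7) 1 :: ih (Nat.shiftRight c 3)) fuel c

/-- The word of a conjugate. -/
def conjW (k : Nat) : List Nat :=
  dig 20 (ex 60 cw k) ++ 3 :: (dig 20 (ex 60 cw k)).reverse

/-- A certified conjugate fixing point `0`. -/
def okConj (k : Nat) : Bool :=
  bif Nat.blt k 3825 then
    Nat.beq (T HeH.tb 3 (walk HeH.tb (dig 20 (ex 60 cw k)) 0)) (walk HeH.tb (dig 20 (ex 60 cw k)) 0) &&
      Nat.beq (key3 (walk HeH.tb (conjW k) cp0) (walk HeH.tb (conjW k) cp1) (walk HeH.tb (conjW k) cp2))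
        (ex 36 ck k) &&
      bif Nat.blt (Nat.add k 1) 3825 then Nat.blt (ex 36 ck k) (ex 36 ck (Nat.add k 1)) else true
  else true

/-- The fixed points of the involution. -/
def okFix (i : Nat) : Bool :=
  bif Nat.blt i 2058 && Nat.beq (T HeH.tb 3 i) i then
    Nat.blt (ext fi i) 42 && Nat.beq (ext fl (ext fi i)) i
  else true

end

end CfsgLib.CosetEnum.HeInv
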