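import Cfsg.Agent.CosetEnum.HeInv.Code

set_option autoImplicit false

/-! Coded 5 × 5 matrices over the field with two elements. -/

namespace CfsgLib.CosetEnum.HeInv

abbrev M5 := Matrix (Fin 5) (Fin 5) (ZMod 2)

theorem ex_eq (w tbl i : ℕ) : ex w tbl i = tbl / 2 ^ (w * i) % 2 ^ w := by
  show (tbl >>> (w * i)) &&& (2 ^ w - 1) = _
  rw [Nat.and_two_pow_sub_one_eq_mod, Nat.shiftRight_eq_div_pow]

theorem ex_lt (w tbl i : ℕ) : ex w tbl i < 2 ^ w := by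
  rw [ex_eq]; exact Nat.mod_lt _ (pow_pos two_pos w)

/-- A coded row. -/
def rowdec (v : ℕ) : Fin 5 → ZMod 2 := fun k => if v.testBit k.val then 1 else 0

/-- A coded matrix. -/
noncomputable def dec (c : ℕ) : M5 := fun r => rowdec (ex 5 c r.val)

theorem ex_mulRow (R c : ℕ) (r : Fin 5) : ex 5 (mulRow R c) r.val = ex 5 R (ex 5 c r.val) := by
  have h : ∀ i, ex 5 R (ex 5 c i) < 32 := fun i => ex_lt 5 R _
  have h0 := h 0; have h1 := h 1; have h2 := h 2; have h3 := h 3; have h4 := h 4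
  show ex 5 (ex 5 R (ex 5 c 0) + (32 * ex 5 R (ex 5 c 1) + (1024 * ex 5 R (ex 5 c 2) +
    (32768 * ex 5 R (ex 5 c 3) + 1048576 * ex 5 R (ex 5 c 4))))) r.val = _
  rw [ex_eq 5 (_ + _)]
  have hr : ∀ a₀ a₁ a₂ a₃ a₄ : ℕ, a₀ < 32 → a₁ < 32 → a₂ < 32 → a₃ < 32 → a₄ < 32 → ∀ i < 5,
      (a₀ + (32 * a₁ + (1024 * a₂ + (32768 * a₃ + 1048576 * a₄)))) / 2 ^ (5 * i) % 2 ^ 5 =
        [a₀, a₁, a₂, a₃, a₄].getD i 0 := by
    intro a₀ a₁ a₂ a₃ a₄ _ _ _ _ _ i hi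
    interval_cases i <;> simp <;> omega
  rw [hr _ _ _ _ _ h0 h1 h2 h3 h4 r.val r.isLt]
  fin_cases r <;> rfl

theorem dec_mulRow {R S : ℕ}
    (h : ∀ v : Fin 32, rowdec (ex 5 R v.val) = Matrix.vecMul (rowdec v.val) (dec S)) (c : ℕ) :
    dec (mulRow R c) = dec c * dec S := by
  ext r k
  rw [Matrix.mul_apply_eq_vecMul]
  show rowdec (ex 5 (mulRow R c) r.val) k = Matrix.vecMul (rowdec (ex 5 c r.val)) (dec S) k
  rw [ex_mulRow, ← h ⟨ex 5 c r.val, ex_lt 5 c _⟩]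

/-- The code of a row. -/
def encRow (f : Fin 5 → ZMod 2) : ℕ :=
  (f 0).val + 2 * (f 1).val + 4 * (f 2).val + 8 * (f 3).val + 16 * (f 4).val

theorem encRow_rowdec : ∀ v : Fin 32, encRow (rowdec v.val) = v.val := by decide +kernel

theorem encRow_one : ∀ r : Fin 5, encRow ((1 : M5) r) = 2 ^ r.val := by decide +kernel

theorem isId_of_dec_eq_one {c : ℕ} (h : dec c = 1) : isId c = true := by
  have hr : ∀ r : Fin 5, ex 5 c r.val = 2 ^ r.val := fun r => by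
    refine (encRow_rowdec ⟨ex 5 c r.val, ex_lt 5 c _⟩).symm.trans ?_
    rw [← encRow_one r, ← h]
    rfl
  have h0 := hr 0; have h1 := hr 1; have h2 := hr 2; have h3 := hr 3; have h4 := hr 4
  simp only [isId, Bool.and_eq_true, Nat.beq_eq]
  exact ⟨⟨⟨⟨h0, h1⟩, h2⟩, h3⟩, h4⟩

end CfsgLib.CosetEnum.HeInv
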