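import Cfsg.Agent.CosetEnum.HeInv.Table
import Cfsg.Agent.CosetEnum.HeInv.Check
import Cfsg.Agent.CosetEnum.HeInv.Matrix
import Cfsg.Agent.CosetEnum.HeOrder.Order
import Cfsg.Agent.SporB.SL5

set_option autoImplicit false
set_option maxRecDepth 100000

/-! The centraliser of the generator `d` of `Cfsg.Spor.He`. -/

namespace CfsgLib.CosetEnum.HeInv

open CfsgLib.SporB

local notation "G" => CfsgLib.CosetEnum.He.setup.Grp
local notation "gg" => CfsgLib.CosetEnum.He.setup.g
local notation "Cz" => Subgroup.centralizer ({CfsgLib.CosetEnum.He.setup.g 3} : Set CfsgLib.CosetEnum.He.setup.Grp)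

theorem lt_of_succ_lt {f : ℕ → ℕ} {m : ℕ} (h : ∀ r, r + 1 < m → f r < f (r + 1)) :
    ∀ r t, r < t → t < m → f r < f t := by
  intro r t hrt
  induction hrt with
  | refl => exact h r
  | step _ ih => intro ht; exact (ih (by omega)).trans (h _ ht)

theorem dig_lt : ∀ fuel c, ∀ x ∈ dig fuel c, x < 7 := by
  intro fuel
  induction fuel with
  | zero => intro c x hx; simp [dig] at hx
  | succ f ih =>
    intro c x hx
    change x ∈ (bif Nat.beq c 0 then [] else
      Nat.sub (Nat.land c 7) 1 :: dig f (Nat.shiftRight c 3)) at hx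
    cases h : Nat.beq c 0
    · rw [h, cond_false, List.mem_cons] at hx
      rcases hx with rfl | hx
      · have : c &&& 7 ≤ 7 := Nat.and_le_right
        show (c &&& 7) - 1 < 7
        omega
      · exact ih _ x hx
    · rw [h] at hx; simp at hx

/-- The word of the conjugating element. -/
noncomputable def cwd (k : ℕ) : List ℕ := dig 20 (ex 60 cw k)

theorem cwd_lt (k : ℕ) : ∀ x ∈ cwd k, x < 7 := dig_lt _ _

theorem prodw_rev (w : List ℕ) (hw : ∀ x ∈ w, x < 7) :
    prodw gg w.reverse = (prodw gg w)⁻¹ := by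
  have := prodw_rev_iv gg 7 id (fun x hx hx' => He.setup.hiv x hx hx') w (fun y hy => ⟨hw y hy, hw y hy⟩)
  rwa [List.map_id] at this

section

variable (φ : G →* Equiv.Perm (Fin HeH.enum.n))
  (hφ : ∀ (w : List ℕ), (∀ x ∈ w, x < He.setup.k) → ∀ i : Fin HeH.enum.n,
    ((φ (prodw gg w))⁻¹ i).val = walk HeH.tb w i)
  (hinj : Function.Injective φ)

include hφ

theorem prodw_single (x : ℕ) : prodw gg [x] = gg x := by simp [prodw]

theorem d_apply (i : Fin HeH.enum.n) : ((φ (gg 3)) i).val = T HeH.tb 3 i.val := by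
  have h := hφ [3] (by decide) i
  rw [prodw_single φ hφ, ← map_inv, ← He.setup.hiv 3 (by decide) (by decide)] at h
  exact h

theorem comm_word (hinj : Function.Injective φ) (w : List ℕ) (hw : ∀ x ∈ w, x < 7)
    (h : allR (okComm w) 12 0 = true) : prodw gg w ∈ Cz := by
  rw [Subgroup.mem_centralizer_singleton_iff]
  apply hinj
  apply inv_injective
  ext i
  have hi : i.val < 2058 := i.isLt
  have hc := allR_spec 12 0 h i.val (Nat.zero_le _) (by omega)
  rw [okComm, show Nat.blt i.val 2058 = true by simpa using hi, cond_true] at hc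
  have hc' := Nat.eq_of_beq_eq_true hc
  have e3 : ∀ j, ((φ (gg 3))⁻¹ j).val = T HeH.tb 3 j.val := fun j => by
    have := hφ [3] (by decide) j
    rw [prodw_single φ hφ] at this
    exact this
  rw [map_mul, map_mul, mul_inv_rev, mul_inv_rev, Equiv.Perm.mul_apply, Equiv.Perm.mul_apply,
    e3, hφ w (fun x hx => hw x hx), hφ w (fun x hx => hw x hx), e3]
  exact hc'

theorem orderOf_d : orderOf (gg 3) = 2 := by
  refine orderOf_eq_prime (by rw [pow_two]; exact He.setup.of_sq _) ?_
  intro h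
  have hd := d_apply φ hφ ⟨2, by decide +kernel⟩
  rw [h, map_one] at hd
  exact absurd hd (by decide +kernel)

theorem card_fixed : Nat.card {j : Fin HeH.enum.n // φ (gg 3) j = j} ≤ 42 := by
  have h : ∀ j : Fin HeH.enum.n, φ (gg 3) j = j → ext fi j.val < 42 ∧ ext fl (ext fi j.val) = j.val := by
    intro j hj
    have hlt : j.val < 2058 := j.isLt
    have hc := allR_spec 12 0 fix_ok j.val (Nat.zero_le _) (by omega)
    have ht : T HeH.tb 3 j.val = j.val := by rw [← d_apply φ hφ j, hj]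
    rw [okFix, show (Nat.blt j.val 2058 && Nat.beq (T HeH.tb 3 j.val) j.val) = true by
      simp only [Bool.and_eq_true, Nat.blt_eq, Nat.beq_eq]; exact ⟨hlt, ht⟩, cond_true] at hc
    simpa only [Bool.and_eq_true, Nat.blt_eq, Nat.beq_eq] using hc
  calc Nat.card {j : Fin HeH.enum.n // φ (gg 3) j = j} ≤ Nat.card (Fin 42) :=
        Nat.card_le_card_of_injective (fun j => ⟨ext fi j.1.val, (h j.1 j.2).1⟩) (by
          intro a b hab
          have hv := congrArg Fin.val hab
          simp only at hv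
          exact Subtype.ext (Fin.ext (by rw [← (h a.1 a.2).2, hv, (h b.1 b.2).2])))
    _ = 42 := by simp

theorem card_centralizer_le [Finite G] (hcard : Nat.card G = 4030387200)
    (htrans : ∀ i, ∃ y, φ y ⟨0, by decide +kernel⟩ = i) : Nat.card Cz ≤ 21504 := by
  have hn : HeH.enum.n = 2058 := rfl
  haveI : NeZero HeH.enum.n := ⟨by rw [hn]; decide⟩
  have hk : ∀ k : Fin 3825,
      T HeH.tb 3 (walk HeH.tb (cwd k.val) 0) = walk HeH.tb (cwd k.val) 0 ∧
      key3 (walk HeH.tb (conjW k.val) cp0) (walk HeH.tb (conjW k.val) cp1)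
        (walk HeH.tb (conjW k.val) cp2) = ex 36 ck k.val ∧
      (k.val + 1 < 3825 → ex 36 ck k.val < ex 36 ck (k.val + 1)) := by
    intro k
    have hc := allR_spec 12 0 conj_ok k.val (Nat.zero_le _) (by have := k.isLt; omega)
    rw [okConj, show Nat.blt k.val 3825 = true by simp, cond_true] at hc
    simp only [Bool.and_eq_true, Nat.beq_eq] at hc
    refine ⟨hc.1.1, hc.1.2, fun hlt => ?_⟩
    have hc2 := hc.2
    rw [show Nat.blt (Nat.add k.val 1) 3825 = true by simpa using hlt, cond_true] at hc2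
    simpa using hc2
  have hconj : ∀ k : Fin 3825, prodw gg (conjW k.val) =
      prodw gg (cwd k.val) * gg 3 * (prodw gg (cwd k.val))⁻¹ := by
    intro k
    show prodw gg (cwd k.val ++ 3 :: (cwd k.val).reverse) = _
    rw [prodw_append, prodw_cons, prodw_rev _ (cwd_lt _), mul_assoc]
  have hlt7 : ∀ k : Fin 3825, ∀ x ∈ conjW k.val, x < 7 := by
    intro k x hx
    change x ∈ cwd k.val ++ 3 :: (cwd k.val).reverse at hx
    simp only [List.mem_append, List.mem_cons, List.mem_reverse] at hx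
    rcases hx with hx | rfl | hx
    exacts [cwd_lt _ x hx, by decide, cwd_lt _ x hx]
  have h := card_centralizer_mul_le φ htrans (gg 3) (fun k : Fin 3825 => prodw gg (cwd k.val))
    (fun k => Fin.ext (by
      rw [d_apply φ hφ, hφ _ (fun x hx => cwd_lt _ x hx)]
      exact (hk k).1))
    (by
      intro k l hkl
      rw [← hconj, ← hconj] at hkl
      have hw : ∀ p : ℕ, p < 2058 → walk HeH.tb (conjW k.val) p = walk HeH.tb (conjW l.val) p := by
        intro p hp
        have h1 := hφ (conjW k.val) (fun x hx => hlt7 k x hx) ⟨p, hn ▸ hp⟩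
        rw [hkl] at h1
        exact h1.symm.trans (hφ (conjW l.val) (fun x hx => hlt7 l x hx) ⟨p, hn ▸ hp⟩)
      have heq : ex 36 ck k.val = ex 36 ck l.val := by
        rw [← (hk k).2.1, ← (hk l).2.1, hw cp0 (by decide +kernel), hw cp1 (by decide +kernel),
          hw cp2 (by decide +kernel)]
      have hmono := lt_of_succ_lt (f := ex 36 ck) (m := 3825)
        (fun r hr => (hk ⟨r, by omega⟩).2.2 hr)
      rcases Nat.lt_trichotomy k.val l.val with hlt | he | hlt
      · exact absurd heq (hmono _ _ hlt l.isLt).ne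
      · exact Fin.ext he
      · exact absurd heq.symm (hmono _ _ hlt k.isLt).ne)
  rw [hcard, Nat.card_fin] at h
  have hf := Nat.mul_le_mul_left 4030387200 (card_fixed φ hφ)
  generalize Nat.card Cz = c at h ⊢
  generalize Nat.card {j : Fin HeH.enum.n // φ (gg 3) j = j} = f at h hf
  rw [hn] at h
  omega

omit hφ in
theorem keyAt_inj {i j : ℕ} (hi : i < 21504) (hj : j < 21504) (h : keyAt i = keyAt j) : i = j := by
  have hr : ∀ r, r < 21504 → ext rkt r < 21504 ∧ ext pos (ext rkt r) = r ∧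
      (r + 1 < 21504 → keyAt (ext pos r) < keyAt (ext pos (r + 1))) := by
    intro r hr
    have hc := allR_spec 15 0 rank_ok r (Nat.zero_le _) (by omega)
    rw [okRank, show Nat.blt r 21504 = true by simpa using hr, cond_true] at hc
    simp only [Bool.and_eq_true, Nat.blt_eq, Nat.beq_eq] at hc
    refine ⟨hc.1.1, hc.1.2, fun hlt => ?_⟩
    have hc2 := hc.2
    rw [show Nat.blt (Nat.add r 1) 21504 = true by simpa using hlt, cond_true] at hc2
    simpa using hc2
  have hmono := lt_of_succ_lt (f := fun r => keyAt (ext pos r)) (m := 21504)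
    (fun r hr' => (hr r (by omega)).2.2 hr')
  obtain ⟨hi1, hi2, -⟩ := hr i hi
  obtain ⟨hj1, hj2, -⟩ := hr j hj
  rcases Nat.lt_trichotomy (ext rkt i) (ext rkt j) with hlt | he | hlt
  · exact absurd h (by simpa [hi2, hj2] using (hmono _ _ hlt hj1).ne)
  · rw [← hi2, ← hj2, he]
  · exact absurd h (by simpa [hi2, hj2] using (hmono _ _ hlt hi1).ne')

/-- The centraliser of `d` is the centraliser of a transvection in `SL(5, 2)`. -/
theorem nonempty_iso (hinj : Function.Injective φ) [Finite G] (hcard : Nat.card G = 4030387200)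
    (htrans : ∀ i, ∃ y, φ y ⟨0, by decide +kernel⟩ = i)
    {s : SL5.S5} (hs : (s : M5) = Matrix.transvection 0 1 1) :
    Nonempty (Cz ≃* Subgroup.centralizer ({s} : Set SL5.S5)) := by
  let nxs : Fin 3 → ℕ := ![nx0, nx1, nx2]
  let pts : Fin 3 → ℕ := ![pt0, pt1, pt2]
  let rts : Fin 3 → ℕ := ![rt0, rt1, rt2]
  let imgs : Fin 3 → ℕ := ![img0, img1, img2]
  let wds : Fin 3 → List ℕ := ![wd0, wd1, wd2]
  have hwlt : ∀ x, ∀ y ∈ wds x, y < 7 := by
    intro x; fin_cases x <;> decide +kernel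
  have hgx : ∀ x, prodw gg (wds x) ∈ Cz := by
    intro x
    refine comm_word φ hφ hinj _ (hwlt x) ?_
    fin_cases x
    exacts [comm0_ok, comm1_ok, comm2_ok]
  have hpt : ∀ x, ∀ i < 2058, walk HeH.tb (wds x) i = ext (pts x) i := by
    intro x i hi
    have hc : okPt (wds x) (pts x) i = true := by
      have h12 : i < 0 + 2 ^ 12 := by omega
      fin_cases x
      exacts [allR_spec 12 0 pt0_ok i (Nat.zero_le _) h12, allR_spec 12 0 pt1_ok i (Nat.zero_le _) h12,
        allR_spec 12 0 pt2_ok i (Nat.zero_le _) h12]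
    rw [okPt, show Nat.blt i 2058 = true by simpa using hi, cond_true] at hc
    exact Nat.eq_of_beq_eq_true hc
  have hst : ∀ x, ∀ i < 21504, ext (nxs x) i < 21504 ∧
      ext kt0 (ext (nxs x) i) = ext (pts x) (ext kt0 i) ∧
      ext kt1 (ext (nxs x) i) = ext (pts x) (ext kt1 i) ∧
      ext kt2 (ext (nxs x) i) = ext (pts x) (ext kt2 i) ∧
      ex 25 mt (ext (nxs x) i) = mulRow (rts x) (ex 25 mt i) := by
    intro x i hi
    have h15 : i < 0 + 2 ^ 15 := by omega
    have hc : okStep (pts x) (rts x) (nxs x) i = true := by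
      fin_cases x
      exacts [allR_spec 15 0 step0_ok i (Nat.zero_le _) h15, allR_spec 15 0 step1_ok i (Nat.zero_le _) h15,
        allR_spec 15 0 step2_ok i (Nat.zero_le _) h15]
    rw [okStep, show Nat.blt i 21504 = true by simpa using hi, cond_true] at hc
    simp only [Bool.and_eq_true, Nat.blt_eq, Nat.beq_eq] at hc
    exact ⟨hc.1.1.1.1, hc.1.1.1.2, hc.1.1.2, hc.1.2, hc.2⟩
  have hrt : ∀ x, ∀ v : Fin 32, rowdec (ex 5 (rts x) v.val) = Matrix.vecMul (rowdec v.val) (dec (imgs x)) := by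
    intro x; fin_cases x <;> decide +kernel
  have himg : ∀ x, (dec (imgs x)).det = 1 := by intro x; fin_cases x <;> decide +kernel
  have hmem : ∀ x, (⟨dec (imgs x), himg x⟩ : SL5.S5) ∈ Subgroup.centralizer ({s} : Set SL5.S5) := by
    intro x
    refine (SL5.mem_iff hs _).mpr ?_
    show dec (imgs x) 0 0 = 1 ∧ dec (imgs x) 1 1 = 1 ∧ (∀ i, i ≠ 0 → dec (imgs x) i 0 = 0) ∧
      ∀ j, j ≠ 1 → dec (imgs x) 1 j = 0
    revert x
    decide +kernel
  let val : Subgroup.centralizer ({s} : Set SL5.S5) →* M5 :=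
    { toFun := fun t => ((t : SL5.S5) : M5)
      map_one' := rfl
      map_mul' := fun _ _ => rfl }
  let cp : Fin HeH.enum.n := ⟨kp0, by decide +kernel⟩
  let cq : Fin HeH.enum.n := ⟨kp1, by decide +kernel⟩
  let cr : Fin HeH.enum.n := ⟨kp2, by decide +kernel⟩
  refine nonempty_mulEquiv_of_table (m := 21504) (r := 3) Cz (card_centralizer_le φ hφ hcard htrans)
    (SL5.card_centralizer hs) val (fun a b hab => Subtype.ext (Subtype.ext hab))
    (fun y => (((φ y)⁻¹ cp).val, ((φ y)⁻¹ cq).val, ((φ y)⁻¹ cr).val))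
    (fun x => prodw gg (wds x)) hgx (fun x => ⟨⟨dec (imgs x), himg x⟩, hmem x⟩)
    (fun i => (ext kt0 i.val, ext kt1 i.val, ext kt2 i.val))
    (fun i => dec (ex 25 mt i.val))
    (fun x i => ⟨ext (nxs x) i.val, (hst x i.val i.isLt).1⟩)
    ?_ ?_ ?_ ?_ ?_ ?_ ?_
  · simp only [map_one, inv_one, Equiv.Perm.one_apply, Fin.val_zero]
    decide +kernel
  · intro i j h
    simp only [Prod.mk.injEq] at h
    exact Fin.ext (keyAt_inj i.isLt j.isLt (by simp only [keyAt, h]))
  · intro x i y hy
    obtain ⟨-, h0, h1, h2, -⟩ := hst x i.val i.isLt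
    simp only [Prod.mk.injEq] at hy ⊢
    rw [map_mul, mul_inv_rev, Equiv.Perm.mul_apply, Equiv.Perm.mul_apply, Equiv.Perm.mul_apply,
      hφ _ (fun z hz => hwlt x z hz), hφ _ (fun z hz => hwlt x z hz), hφ _ (fun z hz => hwlt x z hz),
      hy.1, hy.2.1, hy.2.2, h0, h1, h2]
    exact ⟨hpt x _ (hy.1 ▸ Fin.isLt _), hpt x _ (hy.2.1 ▸ Fin.isLt _), hpt x _ (hy.2.2 ▸ Fin.isLt _)⟩
  · intro i hi
    have hi0 : 0 < i.val := Nat.pos_of_ne_zero fun h => hi (Fin.ext h)
    have hc := allR_spec 15 0 tree_ok i.val (Nat.zero_le _) (by have := i.isLt; omega)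
    rw [okTree, show (Nat.blt i.val 21504 && Nat.blt 0 i.val) = true by
      simp only [Bool.and_eq_true, Nat.blt_eq]; exact ⟨i.isLt, hi0⟩, cond_true] at hc
    simp only [Bool.and_eq_true, Nat.blt_eq, Nat.beq_eq] at hc
    refine ⟨⟨_, hc.1.1.1.trans i.isLt⟩, ⟨Nat.land (ext par i.val) 3, hc.1.1.2⟩, hc.1.1.1, Fin.ext ?_⟩
    have h2 := hc.1.2
    show ext (nxs ⟨Nat.land (ext par i.val) 3, hc.1.1.2⟩) (Nat.shiftRight (ext par i.val) 2) = i.val
    generalize hx : (⟨Nat.land (ext par i.val) 3, hc.1.1.2⟩ : Fin 3) = x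
    have hxv : Nat.land (ext par i.val) 3 = x.val := congrArg Fin.val hx
    rw [hxv] at h2
    fin_cases x <;> exact h2
  · show dec (ex 25 mt 0) = 1
    decide +kernel
  · intro x i
    show dec (ex 25 mt (ext (nxs x) i.val)) = dec (ex 25 mt i.val) * dec (imgs x)
    rw [(hst x i.val i.isLt).2.2.2.2, dec_mulRow (hrt x)]
  · intro i hi
    by_contra h
    have hi0 : 0 < i.val := Nat.pos_of_ne_zero fun h' => h (Fin.ext h')
    have hc := allR_spec 15 0 tree_ok i.val (Nat.zero_le _) (by have := i.isLt; omega)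
    rw [okTree, show (Nat.blt i.val 21504 && Nat.blt 0 i.val) = true by
      simp only [Bool.and_eq_true, Nat.blt_eq]; exact ⟨i.isLt, hi0⟩, cond_true] at hc
    simp only [Bool.and_eq_true, Bool.not_eq_true'] at hc
    rw [isId_of_dec_eq_one hi] at hc
    exact Bool.noConfusion hc.2

end

/-- The involution `d` of the Held group has the centraliser of a transvection of `SL(5, 2)`. -/
theorem exists_involution {s : SL5.S5} (hs : (s : M5) = Matrix.transvection 0 1 1) :
    ∃ z : Cfsg.Spor.He, orderOf z = 2 ∧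
      Nonempty (Subgroup.centralizer ({z} : Set Cfsg.Spor.He) ≃*
        Subgroup.centralizer ({s} : Set SL5.S5)) := by
  obtain ⟨φ, e, hφ, he, he0, hinj, hcard⟩ := He.order_and_action
  haveI := He.finite_grp
  have htrans : ∀ i, ∃ y, φ y ⟨0, by decide +kernel⟩ = i := by
    intro i
    obtain ⟨y, hy⟩ := QuotientGroup.mk_surjective (e.symm i)
    refine ⟨y, ?_⟩
    have h1 := he y ((1 : G) : G ⧸ HeH.enum.H)
    rw [he0, MulAction.Quotient.smul_mk, smul_eq_mul, mul_one, hy, Equiv.apply_symm_apply] at h1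
    exact h1.symm
  exact ⟨gg 3, orderOf_d φ hφ, nonempty_iso φ hφ hinj hcard htrans hs⟩

end CfsgLib.CosetEnum.HeInv
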