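import Mathlib

set_option autoImplicit false

/-!
Two tools for a centraliser inside a finite transitive group: an upper bound for its order by
counting fixed points, and an isomorphism read from a table of generator actions.
-/

namespace CfsgLib.CosetEnum.HeInv

open Equiv

/-- Distinct conjugates of `z` fixing a point bound the centraliser of `z`. -/
theorem card_centralizer_mul_le {G ι : Type*} [Group G] [Finite G] {n : ℕ} [NeZero n]
    (φ : G →* Perm (Fin n)) (htrans : ∀ i, ∃ y, φ y 0 = i) (z : G) (w : ι → G)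
    (hw : ∀ k, φ z ((φ (w k))⁻¹ 0) = (φ (w k))⁻¹ 0)
    (hinj : ∀ k l, w k * z * (w k)⁻¹ = w l * z * (w l)⁻¹ → k = l) :
    n * (Nat.card ι * Nat.card (Subgroup.centralizer ({z} : Set G))) ≤
      Nat.card G * Nat.card {j : Fin n // φ z j = j} := by
  classical
  let F : Fin n → Prop := fun j => φ z j = j
  -- the pairs counted twice
  have e1 : {p : G × Fin n // F ((φ p.1)⁻¹ p.2)} ≃ G × {j // F j} :=
    { toFun := fun p => (p.1.1, ⟨(φ p.1.1)⁻¹ p.1.2, p.2⟩)
      invFun := fun q => ⟨(q.1, φ q.1 q.2.1), by rw [Perm.inv_def, symm_apply_apply]; exact q.2.2⟩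
      left_inv := fun p => Subtype.ext (Prod.ext rfl (by simp))
      right_inv := fun q => Prod.ext rfl (Subtype.ext (by simp)) }
  choose y hy using htrans
  have e2 : {p : G × Fin n // F ((φ p.1)⁻¹ p.2)} ≃ Fin n × {g : G // F ((φ g)⁻¹ 0)} :=
    { toFun := fun p => (p.1.2, ⟨(y p.1.2)⁻¹ * p.1.1, by
        rw [map_mul, map_inv, mul_inv_rev, inv_inv, Perm.mul_apply, hy]; exact p.2⟩)
      invFun := fun q => ⟨(y q.1 * q.2.1, q.1), by
        have hi : (φ (y q.1))⁻¹ q.1 = 0 := by rw [Perm.inv_def, symm_apply_eq, hy]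
        show F ((φ (y q.1 * q.2.1))⁻¹ q.1)
        rw [map_mul, mul_inv_rev, Perm.mul_apply, hi]; exact q.2.2⟩
      left_inv := fun p => Subtype.ext (Prod.ext (by simp) rfl)
      right_inv := fun q => Prod.ext rfl (Subtype.ext (by simp)) }
  have hcount : n * Nat.card {g : G // F ((φ g)⁻¹ 0)} = Nat.card G * Nat.card {j // F j} := by
    have := Nat.card_congr (e1.symm.trans e2)
    rw [Nat.card_prod, Nat.card_prod, Nat.card_fin] at this
    exact this.symm
  have hc : ∀ c : Subgroup.centralizer ({z} : Set G), (c : G) * z = z * (c : G) := fun c =>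
    Subgroup.mem_centralizer_singleton_iff.mp c.2
  have hle : Nat.card (ι × Subgroup.centralizer ({z} : Set G)) ≤ Nat.card {g : G // F ((φ g)⁻¹ 0)} := by
    refine Nat.card_le_card_of_injective
      (fun q => (⟨w q.1 * (q.2 : G), ?_⟩ : {g : G // F ((φ g)⁻¹ 0)})) ?_
    · show φ z ((φ (w q.1 * (q.2 : G)))⁻¹ 0) = (φ (w q.1 * (q.2 : G)))⁻¹ 0
      have hcz : (q.2 : G)⁻¹ * z = z * (q.2 : G)⁻¹ := by
        rw [inv_mul_eq_iff_eq_mul, ← mul_assoc, eq_mul_inv_iff_mul_eq]
        exact (hc q.2).symm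
      rw [← map_inv, ← Perm.mul_apply, ← map_mul, mul_inv_rev, ← mul_assoc, ← hcz,
        map_mul, map_mul, Perm.mul_apply, Perm.mul_apply, map_mul, Perm.mul_apply, map_inv φ (w q.1),
        hw q.1]
    · rintro ⟨k, c⟩ ⟨l, d⟩ h
      have h' : w k * (c : G) = w l * (d : G) := congrArg Subtype.val h
      have hconj : ∀ e : Subgroup.centralizer ({z} : Set G), ∀ u : G,
          u * (e : G) * z * (u * (e : G))⁻¹ = u * z * u⁻¹ := fun e u => by
        rw [mul_assoc u (e : G) z, hc e]; group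
      have hkl : k = l := hinj k l (by rw [← hconj c (w k), ← hconj d (w l), h'])
      subst hkl
      rw [Subtype.ext (mul_left_cancel h') (a1 := c) (a2 := d)]
  rw [Nat.card_prod] at hle
  rw [← hcount]
  exact Nat.mul_le_mul_left n hle

/-- An isomorphism read from a table. -/
theorem nonempty_mulEquiv_of_table {G M α : Type*} [Group G] [Monoid M] {m r : ℕ} [NeZero m]
    (C : Subgroup G) [Finite C] (hC : Nat.card C ≤ m)
    {K : Type*} [Group K] [Finite K] (hK : Nat.card K = m) (val : K →* M)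
    (hval : Function.Injective val) (key : G → α) (gx : Fin r → G) (hgx : ∀ x, gx x ∈ C)
    (sx : Fin r → K) (k : Fin m → α) (μ : Fin m → M) (nx : Fin r → Fin m → Fin m)
    (hk0 : key 1 = k 0) (hkinj : Function.Injective k)
    (hstep : ∀ x i h, key h = k i → key (h * gx x) = k (nx x i))
    (htree : ∀ i : Fin m, i ≠ 0 → ∃ p x, p.val < i.val ∧ nx x p = i)
    (hμ0 : μ 0 = 1) (hμ : ∀ x i, μ (nx x i) = μ i * val (sx x)) (hμ1 : ∀ i, μ i = 1 → i = 0) :
    Nonempty (C ≃* K) := by
  have hex : ∀ i : Fin m, ∃ h : C, ∃ t : K, key (h : G) = k i ∧ val t = μ i := by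
    intro i
    induction hi : i.val using Nat.strong_induction_on generalizing i with
    | _ v ih =>
      by_cases h0 : i = 0
      · exact ⟨1, 1, by rw [h0]; exact hk0, by rw [map_one, h0, hμ0]⟩
      · obtain ⟨p, x, hp, rfl⟩ := htree i h0
        obtain ⟨h, t, h1, h2⟩ := ih p.val (by omega) p rfl
        exact ⟨h * ⟨gx x, hgx x⟩, t * sx x, hstep x p h h1, by rw [map_mul, h2, hμ]⟩
  choose H Tt hH hT using hex
  have hHinj : Function.Injective H := fun i j h => hkinj (by rw [← hH i, ← hH j, h])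
  have hHbij : Function.Bijective H := hHinj.bijective_of_nat_card_le (by rwa [Nat.card_fin])
  have huniq : ∀ (h : C) i, key (h : G) = k i → h = H i := by
    intro h i hi
    obtain ⟨j, rfl⟩ := hHbij.2 h
    rw [hkinj ((hH j).symm.trans hi)]
  let e := Equiv.ofBijective H hHbij
  let ψ : C → K := fun h => Tt (e.symm h)
  have hψ : ∀ i, ψ (H i) = Tt i := fun i => by
    show Tt (e.symm (e i)) = Tt i
    rw [Equiv.symm_apply_apply]
  have hψ1 : ψ 1 = 1 := hval (by rw [huniq 1 0 hk0, hψ, hT, hμ0, map_one])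
  have hψx : ∀ (h : C) x, ψ (h * ⟨gx x, hgx x⟩) = ψ h * sx x := by
    intro h x
    obtain ⟨i, rfl⟩ := hHbij.2 h
    rw [huniq (H i * ⟨gx x, hgx x⟩) (nx x i) (hstep x i _ (hH i)), hψ, hψ]
    exact hval (by rw [map_mul, hT, hT, hμ])
  have hψmul : ∀ (y h : C), ψ (y * h) = ψ y * ψ h := by
    intro y h
    obtain ⟨i, rfl⟩ := hHbij.2 h
    induction hi : i.val using Nat.strong_induction_on generalizing i with
    | _ v ih =>
      by_cases h0 : i = 0
      · subst h0; rw [← huniq 1 0 hk0, mul_one, hψ1, mul_one]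
      · obtain ⟨p, x, hp, rfl⟩ := htree i h0
        rw [← huniq (H p * ⟨gx x, hgx x⟩) (nx x p) (hstep x p _ (hH p)), ← mul_assoc, hψx, hψx,
          ih p.val (by omega) p rfl, mul_assoc]
  have hinj : Function.Injective (MonoidHom.mk' ψ hψmul) := by
    rw [injective_iff_map_eq_one]
    intro h hh
    obtain ⟨i, rfl⟩ := hHbij.2 h
    have hi : i = 0 := hμ1 i (by rw [← hT i, ← hψ i]; exact (congrArg val hh).trans (map_one val))
    rw [hi, ← huniq 1 0 hk0]
  exact ⟨MulEquiv.ofBijective (MonoidHom.mk' ψ hψmul) (hinj.bijective_of_nat_card_le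
    (by rw [hK, ← Nat.card_congr e, Nat.card_fin]))⟩

end CfsgLib.CosetEnum.HeInv
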